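import Groth.Agent.TorMod7.Horseshoe
import Mathlib.CategoryTheory.Monoidal.Tor
import Mathlib.Algebra.Category.ModuleCat.Monoidal.Closed
import Mathlib.Algebra.Category.ModuleCat.EpiMono
import Mathlib.Algebra.Category.ModuleCat.Projective
import Mathlib.Algebra.Homology.ShortComplex.ModuleCat

set_option autoImplicit false

open CategoryTheory Category Limits MonoidalCategory

namespace Groth.Agent.TorMod7

universe u

variable {A : Type u} [CommRing A] (N : ModuleCat.{u} A) (S : SES (ModuleCat.{u} A))

lemma mono_leftDerived_zero_iff {X Y : ModuleCat.{u} A} (f : X ⟶ Y) :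
    Mono ((((tensoringLeft (ModuleCat.{u} A)).obj N).leftDerived 0).map f) ↔
      Function.Injective (f.hom.lTensor N) := by
  let e := ((tensoringLeft (ModuleCat.{u} A)).obj N).leftDerivedZeroIsoSelf
  have key : Mono ((((tensoringLeft (ModuleCat.{u} A)).obj N).leftDerived 0).map f) ↔
      Mono (((tensoringLeft (ModuleCat.{u} A)).obj N).map f) :=
    (MorphismProperty.monomorphisms _).arrow_mk_iso_iff
      (Arrow.isoMk (e.app X) (e.app Y) (e.hom.naturality f).symm)
  rw [key, ModuleCat.mono_iff_injective]
  rfl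

/-- For `0 → K → F → M → 0` with `F` projective, `Tor₁(N, M) = 0` iff `N ⊗ K → N ⊗ F` is injective. -/
theorem isZero_tor_one_iff (h : Projective S.1.X₂) :
    IsZero (((Tor (ModuleCat.{u} A) 1).obj N).obj S.1.X₃) ↔
      Function.Injective (S.1.f.hom.lTensor N) := by
  let F := (tensoringLeft (ModuleCat.{u} A)).obj N
  have hδ : Mono (leftDerivedδ F S 0) :=
    (exact₃ F S 0).mono_g ((F.isZero_leftDerived_obj_projective_succ 0 S.1.X₂).eq_of_src _ _)
  rw [← mono_leftDerived_zero_iff]
  constructor
  · intro h0
    exact (exact₁ F S 0).mono_g (h0.eq_of_src _ _)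
  · intro h0
    have hzero : leftDerivedδ F S 0 = 0 := (exact₁ F S 0).mono_g_iff.1 h0
    show IsZero ((F.leftDerived 1).obj S.1.X₃)
    rw [IsZero.iff_id_eq_zero, ← cancel_mono (leftDerivedδ F S 0), hzero, comp_zero, comp_zero]

/-- Dimension shifting in the second variable. -/
theorem isZero_tor_succ (h : Projective S.1.X₂) (n : ℕ)
    (h1 : IsZero (((Tor (ModuleCat.{u} A) (n + 1)).obj N).obj S.1.X₁)) :
    IsZero (((Tor (ModuleCat.{u} A) (n + 2)).obj N).obj S.1.X₃) := by
  let F := (tensoringLeft (ModuleCat.{u} A)).obj N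
  have hδ : Mono (leftDerivedδ F S (n + 1)) :=
    (exact₃ F S (n + 1)).mono_g ((F.isZero_leftDerived_obj_projective_succ (n + 1) S.1.X₂).eq_of_src _ _)
  exact @IsZero.of_mono _ _ _ _ _ (leftDerivedδ F S (n + 1)) hδ h1

/-- The short exact sequence of a surjective linear map. -/
noncomputable def sesOfSurjective {M F : Type u} [AddCommGroup M] [Module A M] [AddCommGroup F]
    [Module A F] (p : F →ₗ[A] M) (hp : Function.Surjective p) : SES (ModuleCat.{u} A) :=
  ⟨ShortComplex.mk (ModuleCat.ofHom (LinearMap.ker p).subtype) (ModuleCat.ofHom p)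
      (ModuleCat.hom_ext (LinearMap.ext fun x => x.2)),
    { exact := by
        rw [ShortComplex.moduleCat_exact_iff]
        intro x hx
        exact ⟨⟨x, hx⟩, rfl⟩
      mono_f := (ModuleCat.mono_iff_injective _).2 (LinearMap.ker p).injective_subtype
      epi_g := (ModuleCat.epi_iff_surjective _).2 hp }⟩

theorem isZero_tor_one_iff_of_surjective {M F : Type u} [AddCommGroup M] [Module A M]
    [AddCommGroup F] [Module A F] [Module.Projective A F] (p : F →ₗ[A] M)
    (hp : Function.Surjective p) :
    IsZero (((Tor (ModuleCat.{u} A) 1).obj N).obj (ModuleCat.of A M)) ↔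
      Function.Injective ((LinearMap.ker p).subtype.lTensor N) := by
  have hF : Projective (ModuleCat.of A F) :=
    (IsProjective.iff_projective (R := A) (P := F)).1 inferInstance
  exact isZero_tor_one_iff N (sesOfSurjective p hp) hF

end Groth.Agent.TorMod7
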