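import Groth.Agent.TorMod7.Syzygy
import Mathlib.CategoryTheory.Abelian.Projective.Dimension

set_option autoImplicit false

open CategoryTheory Category Limits

namespace Groth.Agent.TorMod7

universe v u

variable {C : Type u} [Category.{v} C] [Abelian C] [EnoughProjectives C]

open Classical in
/-- A projective cover which is the identity on projective objects. -/
noncomputable def thriftyOver (X : C) : {P : C // Projective P ∧ (Projective X → P = X)} :=
  if h : Projective X then ⟨X, h, fun _ => rfl⟩
  else ⟨Projective.over X, Projective.projective_over X, fun h' => absurd h' h⟩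

open Classical in
noncomputable def thriftyπ (X : C) : (thriftyOver X).1 ⟶ X :=
  if h : Projective X then eqToHom ((thriftyOver X).2.2 h)
  else eqToHom (by rw [thriftyOver, dif_neg h]) ≫ Projective.π X

instance thriftyπ_epi (X : C) : Epi (thriftyπ X) := by
  classical
  unfold thriftyπ
  by_cases h : Projective X
  · rw [dif_pos h]; infer_instance
  · rw [dif_neg h]
    exact epi_comp _ _

lemma isZero_kernel_thriftyπ (X : C) [Projective X] : IsZero (kernel (thriftyπ X)) := by
  have : Mono (thriftyπ X) := by
    unfold thriftyπ
    rw [dif_pos ‹Projective X›]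
    infer_instance
  exact IsZero.of_iso (isZero_zero C) (kernel.ofMono (thriftyπ X))

noncomputable def syzygy (X : C) : ℕ → C
  | 0 => X
  | n + 1 => kernel (thriftyπ (syzygy X n))

noncomputable def thriftyData (X : C) : SyzygyData C where
  K := syzygy X
  P n := (thriftyOver (syzygy X n)).1
  proj n := (thriftyOver (syzygy X n)).2.1
  ι n := kernel.ι (thriftyπ (syzygy X n))
  p n := thriftyπ (syzygy X n)
  w n := kernel.condition _
  shortExact n :=
    { exact := ShortComplex.exact_kernel _
      mono_f := (inferInstance : Mono (kernel.ι (thriftyπ (syzygy X n))))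
      epi_g := thriftyπ_epi _ }

theorem exists_resolution_of_hasProjectiveDimensionLT (X : C) (d : ℕ)
    [hX : HasProjectiveDimensionLT X (d + 1)] :
    ∃ P : ProjectiveResolution X, ∀ i : ℕ, d < i → IsZero (P.complex.X i) := by
  let D := thriftyData X
  have hpd : ∀ n j, n + j = d → HasProjectiveDimensionLT (syzygy X n) (j + 1) := by
    intro n
    induction n with
    | zero => intro j hj; obtain rfl : j = d := by omega
              exact hX
    | succ n ih =>
      intro j hj
      have h := ih (j + 1) (by omega)
      exact ((D.shortExact n).hasProjectiveDimensionLT_X₃_iff j (D.proj n)).1 h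
  refine ⟨D.resolution, fun i hi => ?_⟩
  obtain ⟨k, rfl⟩ : ∃ k, i = d + 1 + k := ⟨i - (d + 1), by omega⟩
  have : Projective (syzygy X d) :=
    projective_iff_hasProjectiveDimensionLT_one.2 (hpd d 0 (by omega))
  have hK : ∀ k, IsZero (syzygy X (d + 1 + k)) := by
    intro k
    induction k with
    | zero => exact isZero_kernel_thriftyπ _
    | succ k ih =>
      have := ih.projective
      exact isZero_kernel_thriftyπ (syzygy X (d + 1 + k))
  show IsZero ((thriftyOver (syzygy X (d + 1 + k))).1)
  rw [(thriftyOver (syzygy X (d + 1 + k))).2.2 (hK k).projective]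
  exact hK k

theorem hasProjectiveDimensionLT_of_resolution {X : C} (P : ProjectiveResolution X) (d : ℕ)
    (h : ∀ i : ℕ, d < i → IsZero (P.complex.X i)) : HasProjectiveDimensionLT X (d + 1) := by
  let K := P.complex
  have hses : ∀ n, (ShortComplex.mk (K.fromOpcycles (n + 1) n) (K.pOpcycles n)
      (by rw [← cancel_epi (K.pOpcycles (n + 1)), ← assoc, K.p_fromOpcycles, K.d_pOpcycles,
        comp_zero])).ShortExact := by
    intro n
    refine { exact := ?_, mono_f := ?_ }
    · let φ : ShortComplex.mk (K.d (n + 1) n) (K.pOpcycles n) (K.d_pOpcycles _ _) ⟶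
          ShortComplex.mk (K.fromOpcycles (n + 1) n) (K.pOpcycles n)
            (by rw [← cancel_epi (K.pOpcycles (n + 1)), ← assoc, K.p_fromOpcycles, K.d_pOpcycles,
              comp_zero]) :=
        { τ₁ := K.pOpcycles (n + 1)
          τ₂ := 𝟙 _
          τ₃ := 𝟙 _ }
      exact (ShortComplex.exact_iff_of_epi_of_isIso_of_mono φ).1
        (ShortComplex.exact_of_g_is_cokernel _ (K.opcyclesIsCokernel (n + 1) n (by simp)))
    · have hzero : IsZero (K.homology (n + 1)) :=
        (K.exactAt_iff_isZero_homology (n + 1)).1 (P.complex_exactAt_succ n)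
      have hex : (ShortComplex.mk (K.homologyι (n + 1)) (K.fromOpcycles (n + 1) n)
          (K.homologyι_comp_fromOpcycles _ _)).Exact :=
        ShortComplex.exact_of_f_is_kernel _ (K.homologyIsKernel (n + 1) n (by simp))
      exact hex.mono_g (hzero.eq_of_src _ _)
  have hpd : ∀ j n, n + j = d → HasProjectiveDimensionLT (K.opcycles n) (j + 1) := by
    intro j
    induction j with
    | zero =>
      intro n hn
      obtain rfl : n = d := by omega
      have h1 : IsZero (K.opcycles (n + 1)) :=
        @IsZero.of_epi _ _ _ _ _ (K.pOpcycles (n + 1)) inferInstance (h (n + 1) (by omega))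
      have := h1.hasProjectiveDimensionLT_zero
      exact (hses n).hasProjectiveDimensionLT_X₃ 0 this
        (projective_iff_hasProjectiveDimensionLT_one.1 (P.projective n))
    | succ j ih =>
      intro n hn
      exact ((hses n).hasProjectiveDimensionLT_X₃_iff j (P.projective n)).2 (ih (n + 1) (by omega))
  exact @hasProjectiveDimensionLT_of_iso _ _ _ _ _ (IsColimit.coconePointUniqueUpToIso
    (K.opcyclesIsCokernel 1 0 (by simp)) P.isColimitCokernelCofork) _ (hpd d 0 (by omega))

theorem isZero_leftDerived_of_hasProjectiveDimensionLT [HasProjectiveResolutions C]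
    {D : Type*} [Category* D] [Abelian D] (F : C ⥤ D) [F.Additive] (X : C) (q : ℕ)
    [HasProjectiveDimensionLT X (q + 1)] (i : ℕ) (hi : q < i) :
    IsZero ((F.leftDerived i).obj X) := by
  obtain ⟨P, hP⟩ := exists_resolution_of_hasProjectiveDimensionLT X q
  refine IsZero.of_iso ?_ (P.isoLeftDerivedObj F i)
  erw [← HomologicalComplex.exactAt_iff_isZero_homology]
  exact ShortComplex.exact_of_isZero_X₂ _ (F.map_isZero (hP i hi))

end Groth.Agent.TorMod7
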