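import Mathlib.CategoryTheory.Abelian.LeftDerived
import Mathlib.Algebra.Homology.ShortComplex.ShortExact
import Mathlib.Algebra.Homology.ShortComplex.SnakeLemma
import Mathlib.Algebra.Homology.ShortComplex.Abelian

set_option autoImplicit false

open CategoryTheory Category Limits ZeroObject

namespace Groth.Agent.TorMod7

universe v u

/-- A sequence of short exact sequences `K (n+1) → P n → K n` with projective middle terms. -/
structure SyzygyData (C : Type u) [Category.{v} C] [Abelian C] : Type (max u v) where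
  K : ℕ → C
  P : ℕ → C
  proj : ∀ n, Projective (P n)
  ι : ∀ n, K (n + 1) ⟶ P n
  p : ∀ n, P n ⟶ K n
  w : ∀ n, ι n ≫ p n = 0
  shortExact : ∀ n, (ShortComplex.mk (ι n) (p n) (w n)).ShortExact

namespace SyzygyData

variable {C : Type u} [Category.{v} C] [Abelian C] (D : SyzygyData C)

noncomputable def complex : ChainComplex C ℕ :=
  ChainComplex.of D.P (fun n => D.p (n + 1) ≫ D.ι n) (fun n => by
    rw [assoc, ← assoc (D.ι _), D.w, zero_comp, comp_zero])

lemma complex_d (n : ℕ) : D.complex.d (n + 1) n = D.p (n + 1) ≫ D.ι n := by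
  simp [complex, ChainComplex.of]

lemma complex_exactAt (n : ℕ) : D.complex.ExactAt (n + 1) := by
  rw [HomologicalComplex.exactAt_iff' _ (n + 2) (n + 1) n (by simp) (by simp)]
  have : Epi (D.p (n + 2)) := (D.shortExact (n + 2)).epi_g
  have : Mono (D.ι n) := (D.shortExact n).mono_f
  let S' : ShortComplex C := ShortComplex.mk (D.ι (n + 1)) (D.p (n + 1) ≫ D.ι n)
    (by rw [← assoc, D.w, zero_comp])
  let φ : D.complex.sc' (n + 2) (n + 1) n ⟶ S' :=
    { τ₁ := D.p (n + 2)
      τ₂ := 𝟙 _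
      τ₃ := 𝟙 _
      comm₁₂ := by
        show D.p (n + 2) ≫ D.ι (n + 1) = D.complex.d (n + 2) (n + 1) ≫ 𝟙 (D.P (n + 1))
        rw [D.complex_d (n + 1)]; exact (comp_id _).symm
      comm₂₃ := by
        show 𝟙 (D.P (n + 1)) ≫ (D.p (n + 1) ≫ D.ι n) = D.complex.d (n + 1) n ≫ 𝟙 (D.P n)
        rw [D.complex_d n, id_comp]; exact (comp_id _).symm }
  let ψ : ShortComplex.mk (D.ι (n + 1)) (D.p (n + 1)) (D.w (n + 1)) ⟶ S' :=
    { τ₁ := 𝟙 _
      τ₂ := 𝟙 _
      τ₃ := D.ι n }
  have : Epi φ.τ₁ := ‹Epi (D.p (n + 2))›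
  have : IsIso φ.τ₂ := (inferInstance : IsIso (𝟙 (D.P (n + 1))))
  have : Mono φ.τ₃ := (inferInstance : Mono (𝟙 (D.P n)))
  have : Mono ψ.τ₃ := ‹Mono (D.ι n)›
  exact (ShortComplex.exact_iff_of_epi_of_isIso_of_mono φ).2
    ((ShortComplex.exact_iff_of_epi_of_isIso_of_mono ψ).1 (D.shortExact (n + 1)).exact)

lemma d_comp_p : D.complex.d 1 0 ≫ D.p 0 = 0 := by
  rw [D.complex_d 0]
  exact ((assoc _ _ _).trans (congrArg (fun f => D.p 1 ≫ f) (D.w 0))).trans comp_zero

lemma exact₀ : (ShortComplex.mk (D.complex.d 1 0) (D.p 0) D.d_comp_p).Exact := by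
  have : Epi (D.p 1) := (D.shortExact 1).epi_g
  let φ : ShortComplex.mk (D.complex.d 1 0) (D.p 0) D.d_comp_p ⟶
      ShortComplex.mk (D.ι 0) (D.p 0) (D.w 0) :=
    { τ₁ := D.p 1
      τ₂ := 𝟙 _
      τ₃ := 𝟙 _
      comm₁₂ := by
        show D.p 1 ≫ D.ι 0 = D.complex.d 1 0 ≫ 𝟙 (D.P 0)
        rw [D.complex_d 0]; exact (comp_id _).symm
      comm₂₃ := by
        show 𝟙 (D.P 0) ≫ D.p 0 = D.p 0 ≫ 𝟙 _
        rw [id_comp, comp_id] }
  have : Epi φ.τ₁ := ‹Epi (D.p 1)›
  have : IsIso φ.τ₂ := (inferInstance : IsIso (𝟙 (D.P 0)))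
  have : Mono φ.τ₃ := (inferInstance : Mono (𝟙 (D.K 0)))
  exact (ShortComplex.exact_iff_of_epi_of_isIso_of_mono φ).2 (D.shortExact 0).exact

noncomputable def resolution : ProjectiveResolution (D.K 0) where
  complex := D.complex
  projective := D.proj
  π := (ChainComplex.toSingle₀Equiv _ _).symm ⟨D.p 0, D.d_comp_p⟩
  quasiIso := ⟨fun n => by
    cases n
    · rw [ChainComplex.quasiIsoAt₀_iff, ShortComplex.quasiIso_iff_of_zeros']
      · refine (ShortComplex.exact_and_epi_g_iff_of_iso ?_).2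
          ⟨D.exact₀, (D.shortExact 0).epi_g⟩
        exact ShortComplex.isoMk (Iso.refl _) (Iso.refl _) (Iso.refl _)
          ((id_comp _).trans (comp_id _).symm)
          ((id_comp _).trans ((ChainComplex.toSingle₀Equiv_symm_apply_f_zero (C := D.complex) (D.p 0) D.d_comp_p).symm.trans (comp_id _).symm))
      all_goals rfl
    · rw [quasiIsoAt_iff_exactAt']
      · apply D.complex_exactAt
      · apply ChainComplex.exactAt_succ_single_obj⟩

lemma resolution_complex : D.resolution.complex = D.complex := rfl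

end SyzygyData

end Groth.Agent.TorMod7
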