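import Groth.Agent.TorMod7.Syzygy
import Mathlib.Algebra.Homology.HomologySequence
import Mathlib.Algebra.Homology.HomologicalComplexAbelian
import Mathlib.CategoryTheory.Preadditive.Projective.Basic

set_option autoImplicit false

open CategoryTheory Category Limits ZeroObject

namespace Groth.Agent.TorMod7

universe v u

variable {C : Type u} [Category.{v} C] [Abelian C] [EnoughProjectives C]

/-- One step of the horseshoe construction: a short exact sequence. -/
abbrev SES (C : Type u) [Category.{v} C] [Abelian C] := {S : ShortComplex C // S.ShortExact}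

noncomputable def top (S : SES C) : ShortComplex C :=
  ShortComplex.mk (biprod.inl : Projective.over S.1.X₁ ⟶ Projective.over S.1.X₁ ⊞ Projective.over S.1.X₃)
    (biprod.snd : Projective.over S.1.X₁ ⊞ Projective.over S.1.X₃ ⟶ Projective.over S.1.X₃)
    biprod.inl_snd

noncomputable def topSplitting (S : SES C) : (top S).Splitting :=
  ShortComplex.Splitting.ofHasBinaryBiproduct _ _

noncomputable def midπ (S : SES C) :
    (top S).X₂ ⟶ S.1.X₂ :=
  have := S.2.epi_g
  biprod.desc (Projective.π S.1.X₁ ≫ S.1.f) (Projective.factorThru (Projective.π S.1.X₃) S.1.g)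

noncomputable def cover (S : SES C) : top S ⟶ S.1 where
  τ₁ := Projective.π S.1.X₁
  τ₂ := midπ S
  τ₃ := Projective.π S.1.X₃
  comm₁₂ := (biprod.inl_desc _ _).symm
  comm₂₃ := by
    have := S.2.epi_g
    show midπ S ≫ S.1.g = (biprod.snd : _ ⟶ Projective.over S.1.X₃) ≫ Projective.π S.1.X₃
    refine biprod.hom_ext' _ _ ?_ ?_
    · simp [midπ, top]
    · simp [midπ, top]

instance cover_epi₁ (S : SES C) : Epi (cover S).τ₁ := inferInstanceAs (Epi (Projective.π S.1.X₁))

instance cover_epi₃ (S : SES C) : Epi (cover S).τ₃ := inferInstanceAs (Epi (Projective.π S.1.X₃))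

lemma cover_epi₂ (S : SES C) : Epi (cover S).τ₂ :=
  have := (topSplitting S).shortExact.epi_g
  have := S.2.epi_g
  ShortComplex.epi_τ₂_of_exact_of_epi (cover S) S.2.exact

noncomputable def snake (S : SES C) : ShortComplex.SnakeInput C where
  L₀ := kernel (cover S)
  L₁ := top S
  L₂ := S.1
  L₃ := cokernel (cover S)
  v₀₁ := kernel.ι _
  v₁₂ := cover S
  v₂₃ := cokernel.π _
  h₀ := kernelIsKernel _
  h₃ := cokernelIsCokernel _
  L₁_exact := (topSplitting S).shortExact.exact
  epi_L₁_g := (topSplitting S).shortExact.epi_g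
  L₂_exact := S.2.exact
  mono_L₂_f := S.2.mono_f

lemma shortExact_next (S : SES C) : (kernel (cover S)).ShortExact := by
  have : Mono (snake S).L₁.f := (topSplitting S).shortExact.mono_f
  have hX₁ : IsZero (snake S).L₃.X₁ := by
    have h : (snake S).v₂₃.τ₁ = 0 := by
      have : Epi (snake S).v₁₂.τ₁ := cover_epi₁ S
      rw [← cancel_epi (snake S).v₁₂.τ₁, comp_zero]
      exact (snake S).w₁₃_τ₁
    rw [IsZero.iff_id_eq_zero, ← cancel_epi (snake S).v₂₃.τ₁, comp_id, comp_zero, h]
  have hepi : Epi (snake S).L₀.g :=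
    (ShortComplex.exact_iff_epi (snake S).L₁' (hX₁.eq_of_tgt _ _)).1 (snake S).L₁'_exact
  exact { exact := (snake S).L₀_exact, mono_f := (snake S).mono_L₀_f, epi_g := hepi }

noncomputable def next (S : SES C) : SES C := ⟨kernel (cover S), shortExact_next S⟩

noncomputable def seq (S : SES C) : ℕ → SES C
  | 0 => S
  | n + 1 => next (seq S n)

noncomputable def incl (S : SES C) (n : ℕ) : (seq S (n + 1)).1 ⟶ top (seq S n) :=
  kernel.ι (cover (seq S n))

lemma incl_cover (S : SES C) (n : ℕ) : incl S n ≫ cover (seq S n) = 0 := kernel.condition _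

lemma shortExact_step₁ (S : SES C) (n : ℕ) :
    (ShortComplex.mk (incl S n).τ₁ (cover (seq S n)).τ₁
      (congrArg ShortComplex.Hom.τ₁ (incl_cover S n))).ShortExact :=
  { exact := (snake (seq S n)).exact_C₁_up
    mono_f := (snake (seq S n)).mono_v₀₁_τ₁
    epi_g := cover_epi₁ _ }

lemma shortExact_step₂ (S : SES C) (n : ℕ) :
    (ShortComplex.mk (incl S n).τ₂ (cover (seq S n)).τ₂
      (congrArg ShortComplex.Hom.τ₂ (incl_cover S n))).ShortExact :=
  { exact := (snake (seq S n)).exact_C₂_up
    mono_f := (snake (seq S n)).mono_v₀₁_τ₂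
    epi_g := cover_epi₂ _ }

lemma shortExact_step₃ (S : SES C) (n : ℕ) :
    (ShortComplex.mk (incl S n).τ₃ (cover (seq S n)).τ₃
      (congrArg ShortComplex.Hom.τ₃ (incl_cover S n))).ShortExact :=
  { exact := (snake (seq S n)).exact_C₃_up
    mono_f := (snake (seq S n)).mono_v₀₁_τ₃
    epi_g := cover_epi₃ _ }

noncomputable def data₁ (S : SES C) : SyzygyData C where
  K n := (seq S n).1.X₁
  P n := (top (seq S n)).X₁
  proj _ := Projective.projective_over _
  ι n := (incl S n).τ₁
  p n := (cover (seq S n)).τ₁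
  w n := congrArg ShortComplex.Hom.τ₁ (incl_cover S n)
  shortExact := shortExact_step₁ S

noncomputable def data₂ (S : SES C) : SyzygyData C where
  K n := (seq S n).1.X₂
  P n := (top (seq S n)).X₂
  proj n := by
    have := Projective.projective_over (seq S n).1.X₁
    have := Projective.projective_over (seq S n).1.X₃
    exact (inferInstance : Projective (Projective.over (seq S n).1.X₁ ⊞ Projective.over (seq S n).1.X₃))
  ι n := (incl S n).τ₂
  p n := (cover (seq S n)).τ₂
  w n := congrArg ShortComplex.Hom.τ₂ (incl_cover S n)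
  shortExact := shortExact_step₂ S

noncomputable def data₃ (S : SES C) : SyzygyData C where
  K n := (seq S n).1.X₃
  P n := (top (seq S n)).X₃
  proj _ := Projective.projective_over _
  ι n := (incl S n).τ₃
  p n := (cover (seq S n)).τ₃
  w n := congrArg ShortComplex.Hom.τ₃ (incl_cover S n)
  shortExact := shortExact_step₃ S

lemma d_comm (S : SES C) (n : ℕ) :
    (cover (seq S (n + 1)) ≫ incl S n).τ₁ ≫ (top (seq S n)).f =
      (top (seq S (n + 1))).f ≫ (cover (seq S (n + 1)) ≫ incl S n).τ₂ :=
  (cover (seq S (n + 1)) ≫ incl S n).comm₁₂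

noncomputable def mapF (S : SES C) : (data₁ S).complex ⟶ (data₂ S).complex where
  f n := (top (seq S n)).f
  comm' i j hij := by
    obtain rfl : j + 1 = i := hij
    rw [(data₁ S).complex_d, (data₂ S).complex_d]
    exact (cover (seq S (j + 1)) ≫ incl S j).comm₁₂.symm

noncomputable def mapG (S : SES C) : (data₂ S).complex ⟶ (data₃ S).complex where
  f n := (top (seq S n)).g
  comm' i j hij := by
    obtain rfl : j + 1 = i := hij
    rw [(data₂ S).complex_d, (data₃ S).complex_d]
    exact (cover (seq S (j + 1)) ≫ incl S j).comm₂₃.symm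

lemma mapF_comp_mapG (S : SES C) : mapF S ≫ mapG S = 0 := by
  ext n
  exact (top (seq S n)).zero

noncomputable def resolution₁ (S : SES C) : ProjectiveResolution S.1.X₁ := (data₁ S).resolution
noncomputable def resolution₂ (S : SES C) : ProjectiveResolution S.1.X₂ := (data₂ S).resolution
noncomputable def resolution₃ (S : SES C) : ProjectiveResolution S.1.X₃ := (data₃ S).resolution

lemma mapF_comm (S : SES C) :
    (mapF S).f 0 ≫ (resolution₂ S).π.f 0 = (resolution₁ S).π.f 0 ≫ S.1.f := by
  rw [show (resolution₂ S).π.f 0 = (cover S).τ₂ from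
      ChainComplex.toSingle₀Equiv_symm_apply_f_zero (C := (data₂ S).complex) _ (data₂ S).d_comp_p,
    show (resolution₁ S).π.f 0 = (cover S).τ₁ from
      ChainComplex.toSingle₀Equiv_symm_apply_f_zero (C := (data₁ S).complex) _ (data₁ S).d_comp_p]
  exact (cover S).comm₁₂.symm

lemma mapG_comm (S : SES C) :
    (mapG S).f 0 ≫ (resolution₃ S).π.f 0 = (resolution₂ S).π.f 0 ≫ S.1.g := by
  rw [show (resolution₃ S).π.f 0 = (cover S).τ₃ from
      ChainComplex.toSingle₀Equiv_symm_apply_f_zero (C := (data₃ S).complex) _ (data₃ S).d_comp_p,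
    show (resolution₂ S).π.f 0 = (cover S).τ₂ from
      ChainComplex.toSingle₀Equiv_symm_apply_f_zero (C := (data₂ S).complex) _ (data₂ S).d_comp_p]
  exact (cover S).comm₂₃.symm

section

variable [HasProjectiveResolutions C] {D : Type*} [Category* D] [Abelian D] (F : C ⥤ D) [F.Additive]

noncomputable def mappedComplexes (S : SES C) : ShortComplex (ChainComplex D ℕ) :=
  ShortComplex.mk ((F.mapHomologicalComplex _).map (mapF S)) ((F.mapHomologicalComplex _).map (mapG S))
    (by rw [← Functor.map_comp, mapF_comp_mapG, Functor.map_zero])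

lemma mappedComplexes_shortExact (S : SES C) : (mappedComplexes F S).ShortExact :=
  HomologicalComplex.shortExact_of_degreewise_shortExact _ fun n =>
    ((topSplitting (seq S n)).map F).shortExact

noncomputable def e₁ (S : SES C) (n : ℕ) :
    (F.leftDerived n).obj S.1.X₁ ≅ (mappedComplexes F S).X₁.homology n :=
  (resolution₁ S).isoLeftDerivedObj F n

noncomputable def e₂ (S : SES C) (n : ℕ) :
    (F.leftDerived n).obj S.1.X₂ ≅ (mappedComplexes F S).X₂.homology n :=
  (resolution₂ S).isoLeftDerivedObj F n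

noncomputable def e₃ (S : SES C) (n : ℕ) :
    (F.leftDerived n).obj S.1.X₃ ≅ (mappedComplexes F S).X₃.homology n :=
  (resolution₃ S).isoLeftDerivedObj F n

lemma isoNat₁ (S : SES C) (n : ℕ) :
    (F.leftDerived n).map S.1.f ≫ (e₂ F S n).hom =
      (e₁ F S n).hom ≫ HomologicalComplex.homologyMap (mappedComplexes F S).f n :=
  ProjectiveResolution.isoLeftDerivedObj_hom_naturality S.1.f (resolution₁ S) (resolution₂ S)
    (mapF S) (mapF_comm S) F n

lemma isoNat₂ (S : SES C) (n : ℕ) :
    (F.leftDerived n).map S.1.g ≫ (e₃ F S n).hom =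
      (e₂ F S n).hom ≫ HomologicalComplex.homologyMap (mappedComplexes F S).g n :=
  ProjectiveResolution.isoLeftDerivedObj_hom_naturality S.1.g (resolution₂ S) (resolution₃ S)
    (mapG S) (mapG_comm S) F n

variable (S : SES C)

/-- The connecting map of the long exact sequence of left derived functors. -/
noncomputable def leftDerivedδ (n : ℕ) :
    (F.leftDerived (n + 1)).obj S.1.X₃ ⟶ (F.leftDerived n).obj S.1.X₁ :=
  (e₃ F S (n + 1)).hom ≫ (mappedComplexes_shortExact F S).δ (n + 1) n rfl ≫ (e₁ F S n).inv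

lemma leftDerived_comp_zero (n : ℕ) :
    (F.leftDerived n).map S.1.f ≫ (F.leftDerived n).map S.1.g = 0 := by
  rw [← cancel_mono (e₃ F S n).hom, assoc, isoNat₂ F S n,
    reassoc_of% (isoNat₁ F S n), ← HomologicalComplex.homologyMap_comp,
    (mappedComplexes F S).zero, HomologicalComplex.homologyMap_zero, comp_zero, zero_comp]

lemma map_g_comp_δ (n : ℕ) :
    (F.leftDerived (n + 1)).map S.1.g ≫ leftDerivedδ F S n = 0 := by
  unfold leftDerivedδ
  rw [reassoc_of% (isoNat₂ F S (n + 1)),
    reassoc_of% ((mappedComplexes_shortExact F S).comp_δ (n + 1) n rfl), zero_comp, comp_zero]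

lemma δ_comp_map_f (n : ℕ) :
    leftDerivedδ F S n ≫ (F.leftDerived n).map S.1.f = 0 := by
  rw [← cancel_mono (e₂ F S n).hom]
  unfold leftDerivedδ
  rw [assoc, assoc, assoc, isoNat₁ F S n, Iso.inv_hom_id_assoc,
    (mappedComplexes_shortExact F S).δ_comp (n + 1) n rfl, comp_zero, zero_comp]

lemma e₁_δ (n : ℕ) : (e₃ F S (n + 1)).hom ≫ (mappedComplexes_shortExact F S).δ (n + 1) n rfl =
    leftDerivedδ F S n ≫ (e₁ F S n).hom := by
  unfold leftDerivedδ
  rw [assoc, assoc, Iso.inv_hom_id, comp_id]

lemma exact₂ (n : ℕ) :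
    (ShortComplex.mk _ _ (leftDerived_comp_zero F S n)).Exact :=
  (ShortComplex.exact_iff_of_iso (ShortComplex.isoMk (e₁ F S n) (e₂ F S n) (e₃ F S n)
    (isoNat₁ F S n).symm (isoNat₂ F S n).symm)).2
    ((mappedComplexes_shortExact F S).homology_exact₂ n)

lemma exact₃ (n : ℕ) :
    (ShortComplex.mk _ _ (map_g_comp_δ F S n)).Exact :=
  (ShortComplex.exact_iff_of_iso (ShortComplex.isoMk (e₂ F S (n + 1)) (e₃ F S (n + 1)) (e₁ F S n)
    (isoNat₂ F S (n + 1)).symm (e₁_δ F S n))).2
    ((mappedComplexes_shortExact F S).homology_exact₃ (n + 1) n rfl)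

lemma exact₁ (n : ℕ) :
    (ShortComplex.mk _ _ (δ_comp_map_f F S n)).Exact :=
  (ShortComplex.exact_iff_of_iso (ShortComplex.isoMk (e₃ F S (n + 1)) (e₁ F S n) (e₂ F S n)
    (e₁_δ F S n) (isoNat₁ F S n).symm)).2
    ((mappedComplexes_shortExact F S).homology_exact₁ (n + 1) n rfl)

lemma epi_map_zero : Epi ((F.leftDerived 0).map S.1.g) := by
  have : Epi ((mappedComplexes F S).g.f 0) :=
    ((topSplitting (seq S 0)).map F).shortExact.epi_g
  have h1 : Epi (HomologicalComplex.homologyMap (mappedComplexes F S).g 0) := by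
    have hiso : IsIso ((mappedComplexes F S).X₂.homologyι 0) :=
      ((mappedComplexes F S).X₂.isoHomologyι₀).isIso_hom
    have hiso' : IsIso ((mappedComplexes F S).X₃.homologyι 0) :=
      ((mappedComplexes F S).X₃.isoHomologyι₀).isIso_hom
    have h : Epi (HomologicalComplex.homologyMap (mappedComplexes F S).g 0 ≫
        (mappedComplexes F S).X₃.homologyι 0) := by
      rw [HomologicalComplex.homologyι_naturality]
      infer_instance
    exact (epi_comp_iff_of_isIso _ ((mappedComplexes F S).X₃.homologyι 0)).1 h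
  have h2 : (F.leftDerived 0).map S.1.g = (e₂ F S 0).hom ≫
      HomologicalComplex.homologyMap (mappedComplexes F S).g 0 ≫ (e₃ F S 0).inv := by
    rw [← reassoc_of% (isoNat₂ F S 0), Iso.hom_inv_id, comp_id]
  rw [h2]
  infer_instance

end

end Groth.Agent.TorMod7
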